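import Cfsg.Agent.Lib.JankoReeMult.Setup
import Cfsg.Agent.Lib.ReeTori.PSLFacts
import Cfsg.Agent.Lib.BinaryCoset.Families

/-!
The Sylow 2-subgroup of an involution centraliser with a normal `PSL₂(q)`, `q` odd, and abelian Sylow 2-subgroups.
-/

set_option autoImplicit false
set_option linter.unusedSectionVars false
set_option linter.style.haveILetI false

namespace CfsgLib.AbCentMax

open Subgroup CfsgLib.JankoReeMult

universe u w

variable {G : Type u} [Group G] [Finite G]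

/-- What is needed about `S ∩ N`. -/
structure Fr (D : Data G) : Prop where
  sq : ∀ x ∈ D.S, x * x = 1
  form : ∀ x ∈ D.S, ∃ v ∈ D.S, v ∈ D.N ∧ (x = v ∨ x = D.t * v)
  four : ∀ v w x : G, v ∈ D.S → v ∈ D.N → w ∈ D.S → w ∈ D.N → x ∈ D.S → x ∈ D.N → v ≠ 1 → w ≠ 1 → v ≠ w →
    x = 1 ∨ x = v ∨ x = w ∨ x = v * w
  conjV : ∀ v w : G, v ∈ D.S → v ∈ D.N → w ∈ D.S → w ∈ D.N → v ≠ 1 → w ≠ 1 →
    ∃ n ∈ D.N, n ∈ normalizer ((D.S : Subgroup G) : Set G) ∧ n * v * n⁻¹ = w
  pair : ∃ v w : G, v ∈ D.S ∧ v ∈ D.N ∧ w ∈ D.S ∧ w ∈ D.N ∧ v ≠ 1 ∧ w ≠ 1 ∧ v ≠ w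
  oddN : ∀ R : Subgroup G, R ≤ D.N → Odd (Nat.card R) → (∀ n ∈ D.N, ∀ r ∈ R, n * r * n⁻¹ ∈ R) → R = ⊥

theorem even_psl {F : Type w} [Field F] [Fintype F] (hF : Odd (Fintype.card F)) :
    2 ∣ Nat.card (Matrix.ProjectiveSpecialLinearGroup (Fin 2) F) := by
  obtain ⟨H, ⟨e⟩⟩ := PSL2Platonic.exists_A4 (F := F) (two_ne hF)
  refine dvd_trans ?_ H.card_subgroup_dvd_card
  rw [Nat.card_congr e.toEquiv, Nat.card_eq_fintype_card]
  decide

/-- The case `q > 3`. -/
theorem fr_of_gt (D : Data G) {F : Type w} [Field F] [Fintype F] (hF : Odd (Fintype.card F))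
    (h3 : 3 < Fintype.card F) (i : D.N ≃* Matrix.ProjectiveSpecialLinearGroup (Fin 2) F) : Fr D := by
  haveI : Fact (Nat.Prime 2) := ⟨Nat.prime_two⟩
  have K := klein_of_iso D hF h3 i
  obtain ⟨P, hP⟩ := D.exists_sylowN
  have h2 : 2 ∣ Nat.card D.N := by rw [Nat.card_congr i.toEquiv]; exact even_psl hF
  haveI : Nontrivial (P : Subgroup D.N) := by
    rw [Subgroup.nontrivial_iff_ne_bot]
    intro e
    have := P.dvd_card_of_dvd_card h2
    rw [e, Subgroup.card_bot] at this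
    omega
  obtain ⟨⟨v, hvP⟩, hv⟩ := exists_ne (1 : (P : Subgroup D.N))
  have hvS : (v : G) ∈ D.S := by rw [hP, Subgroup.mem_subgroupOf] at hvP; exact hvP
  have hv1 : (v : G) ≠ 1 := fun e => hv (Subtype.ext (Subtype.ext e))
  refine ⟨K.sq, K.form, K.four, ?_, ?_, fun R hR hodd hn => ?_⟩
  · intro a b haS haN hbS hbN ha hb
    by_cases hab : a = b
    · exact ⟨1, one_mem _, one_mem _, by simp [hab]⟩
    have step : ∀ {x : G}, x ∈ D.S → x ∈ D.N → x ≠ 1 → ∃ n ∈ D.N, n ∈ normalizer ((D.S : Subgroup G) : Set G) ∧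
        n * x * n⁻¹ ∈ D.S ∧ n * x * n⁻¹ ∈ D.N ∧ n * x * n⁻¹ ≠ 1 ∧ n * x * n⁻¹ ≠ x := by
      intro x hxS hxN hx
      obtain ⟨n, hnN, hn, hne⟩ := K.moved x hxS hxN hx
      exact ⟨n, hnN, hn, (Subgroup.mem_normalizer_iff.mp hn x).mp hxS, mul_mem (mul_mem hnN hxN) (inv_mem hnN),
        fun e => hx (conj_eq_one_iff.mp e), hne⟩
    obtain ⟨n, hnN, hn, h1, h2, h3', h4⟩ := step haS haN ha
    rcases K.four a b _ haS haN hbS hbN h1 h2 ha hb hab with e | e | e | e
    · exact absurd e h3'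
    · exact absurd e h4
    · exact ⟨n, hnN, hn, e⟩
    · obtain ⟨m, hmN, hm, k1, k2, k3, k4⟩ := step hbS hbN hb
      rcases K.four a b _ haS haN hbS hbN k1 k2 ha hb hab with e' | e' | e' | e'
      · exact absurd e' k3
      · exact ⟨m⁻¹, inv_mem hmN, inv_mem hm, by rw [← e']; group⟩
      · exact absurd e' k4
      · exact ⟨m⁻¹ * n, mul_mem (inv_mem hmN) hnN, mul_mem (inv_mem hm) hn, by
          calc m⁻¹ * n * a * (m⁻¹ * n)⁻¹ = m⁻¹ * (n * a * n⁻¹) * m := by group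
            _ = b := by rw [e, ← e']; group⟩
  · obtain ⟨n, hnN, hn, hne⟩ := K.moved v hvS v.2 hv1
    exact ⟨v, n * v * n⁻¹, hvS, v.2, (Subgroup.mem_normalizer_iff.mp hn _).mp hvS,
      mul_mem (mul_mem hnN v.2) (inv_mem hnN), hv1, fun e => hv1 (conj_eq_one_iff.mp e), hne.symm⟩
  · haveI := psl_simple (F := F) h3
    haveI : IsSimpleGroup D.N := MulEquiv.isSimpleGroup i
    haveI : (R.subgroupOf D.N).Normal := ⟨fun r hr n => hn n n.2 r hr⟩
    rcases (inferInstance : (R.subgroupOf D.N).Normal).eq_bot_or_eq_top with e | e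
    · exact (Subgroup.subgroupOf_eq_bot.mp e).eq_bot_of_le hR
    · exfalso
      have : D.N = R := le_antisymm (Subgroup.subgroupOf_eq_top.mp e) hR
      rw [← this] at hodd
      exact Nat.not_even_iff_odd.mpr hodd (even_iff_two_dvd.mpr h2)

/-- The facts about a group of order twelve with a cycled four-group. -/
theorem twelve {L : Type w} [Group L] [Finite L] (hL : Nat.card L = 12) {g b c : L} (g3 : g ^ 3 = 1) (g1 : g ≠ 1)
    (hb : b * b = 1) (b1 : b ≠ 1) (hc : c * c = 1) (c1 : c ≠ 1) (hbc : b ≠ c) (hcomm : b * c = c * b)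
    (hgb : g * b * g⁻¹ = c) (hgc : g * c * g⁻¹ = b * c) (P : Sylow 2 L) :
    (∀ x, x ∈ P ↔ x = 1 ∨ x = b ∨ x = c ∨ x = b * c) ∧
      (∀ R : Subgroup L, R.Normal → Odd (Nat.card R) → R = ⊥) ∧
      ∀ φ : MulAut L, (∀ x ∈ P, φ x = x) → ∃ u ∈ P, φ = MulAut.conj u := by
  classical
  haveI : Fact (Nat.Prime 2) := ⟨Nat.prime_two⟩
  set V := PSL2Klein.four b c hb hc hcomm with hV
  have hk : IsKleinFour V := PSL2Klein.four_klein hb hc hcomm b1 c1 hbc
  have hV4 : Nat.card V = 4 := hk.card_four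
  have hVmem : ∀ x, x ∈ V ↔ x = 1 ∨ x = b ∨ x = c ∨ x = b * c := fun x => Iff.rfl
  have bV : b ∈ V := (hVmem b).mpr (Or.inr (Or.inl rfl))
  have cV : c ∈ V := (hVmem c).mpr (Or.inr (Or.inr (Or.inl rfl)))
  have bcV : b * c ∈ V := mul_mem bV cV
  have gbc : g * (b * c) * g⁻¹ = b := by
    calc g * (b * c) * g⁻¹ = (g * b * g⁻¹) * (g * c * g⁻¹) := by group
      _ = b := by rw [hgb, hgc, hcomm, ← mul_assoc, hc, one_mul]
  have hgV : g ∈ normalizer (V : Set L) := Subgroup.mem_normalizer_fintype fun x hx => by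
    rcases (hVmem x).mp hx with rfl | rfl | rfl | rfl
    · simp
    · show g * x * g⁻¹ ∈ V
      rw [hgb]; exact cV
    · show g * x * g⁻¹ ∈ V
      rw [hgc]; exact bcV
    · show g * (b * c) * g⁻¹ ∈ V
      rw [gbc]; exact bV
  have hVcomm : ∀ x ∈ V, ∀ y ∈ V, x * y = y * x := fun x hx y hy => congrArg Subtype.val
    (mul_comm_of_exponent_two (IsKleinFour.exponent_two (G := V)) (⟨x, hx⟩ : V) ⟨y, hy⟩)
  have go : orderOf g = 3 := orderOf_eq_prime g3 g1
  have htop : ∀ H : Subgroup L, V ≤ H → g ∈ H → H = ⊤ := fun H hVH hgH => by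
    refine Subgroup.eq_top_of_card_eq H (Nat.dvd_antisymm H.card_subgroup_dvd_card ?_)
    rw [hL, show (12 : ℕ) = 4 * 3 from rfl]
    refine Nat.Coprime.mul_dvd_of_dvd_of_dvd (by norm_num) (hV4 ▸ Subgroup.card_dvd_of_le hVH) ?_
    rw [← go]
    exact Subgroup.orderOf_dvd_natCard H hgH
  haveI hVn : V.Normal := Subgroup.normalizer_eq_top_iff.mp (htop _ Subgroup.le_normalizer hgV)
  have hP4 : Nat.card (P : Subgroup L) = 4 := BinaryCoset.card_sylow_two (k := 2) (m := 3) (by rw [hL]; rfl)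
    ⟨1, rfl⟩ P
  have hPV : (P : Subgroup L) = V := by
    obtain ⟨Q, hQ⟩ := (IsPGroup.of_card (n := 2) (by rw [hV4]; rfl) : IsPGroup 2 V).exists_le_sylow
    obtain ⟨k, rfl⟩ := MulAction.exists_smul_eq L Q P
    have hle : V ≤ ((k • Q : Sylow 2 L) : Subgroup L) := fun x hx => by
      refine ⟨k⁻¹ * x * k, hQ (by simpa using hVn.conj_mem x hx k⁻¹), ?_⟩
      show k * (k⁻¹ * x * k) * k⁻¹ = x
      group
    exact (Subgroup.eq_of_le_of_card_ge hle (by rw [hP4, hV4])).symm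
  have hmem : ∀ x, x ∈ P ↔ x = 1 ∨ x = b ∨ x = c ∨ x = b * c := fun x => by
    show x ∈ (P : Subgroup L) ↔ _
    rw [hPV]; exact hVmem x
  have hself : ∀ z, (∀ x ∈ V, z * x = x * z) → z ∈ V := by
    intro z hz
    set C := centralizer (V : Set L)
    have hVC : V ≤ C := fun x hx => Subgroup.mem_centralizer_iff.mpr fun y hy => hVcomm y hy x hx
    have hd : Nat.card C ∣ 12 := hL ▸ C.card_subgroup_dvd_card
    have h4 : 4 ∣ Nat.card C := hV4 ▸ Subgroup.card_dvd_of_le hVC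
    have hle : Nat.card C ≤ 12 := Nat.le_of_dvd (by norm_num) hd
    have : Nat.card C = 4 ∨ Nat.card C = 12 := by
      interval_cases Nat.card C <;> omega
    rcases this with e | e
    · rw [Subgroup.eq_of_le_of_card_ge hVC (by rw [e, hV4])]
      exact Subgroup.mem_centralizer_iff.mpr fun y hy => (hz y hy).symm
    · exfalso
      have hg : g ∈ C := by
        rw [Subgroup.eq_top_of_card_eq C (e.trans hL.symm)]
        exact mem_top g
      have h := Subgroup.mem_centralizer_iff.mp hg b bV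
      rw [← h, mul_inv_cancel_right] at hgb
      exact hbc hgb
  refine ⟨hmem, fun R hRn hodd => ?_, fun φ hφ => ?_⟩
  · have hcop : Nat.Coprime (Nat.card V) (Nat.card R) := by
      rw [hV4, show (4 : ℕ) = 2 ^ 2 from rfl]
      exact Nat.Coprime.pow_left 2 (Nat.coprime_two_left.mpr hodd)
    have hdisj : Disjoint V R := disjoint_iff.mpr (Subgroup.inf_eq_bot_of_coprime hcop)
    rw [eq_bot_iff]
    intro r hr
    have hrV : r ∈ V := hself r fun x hx => (Subgroup.commute_of_normal_of_disjoint _ _ hVn hRn hdisj x r hx hr).symm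
    exact hdisj.le_bot ⟨hrV, hr⟩
  · have hz : g⁻¹ * φ g ∈ V := hself _ fun x hx => by
      have h1 : φ g * x * (φ g)⁻¹ = g * x * g⁻¹ := by
        conv_lhs => rw [← hφ x (show x ∈ (P : Subgroup L) from hPV ▸ hx)]
        rw [← map_inv, ← map_mul, ← map_mul]
        exact hφ _ (show _ ∈ (P : Subgroup L) from hPV ▸ (Subgroup.mem_normalizer_iff.mp hgV x).mp hx)
      calc g⁻¹ * φ g * x = g⁻¹ * (φ g * x * (φ g)⁻¹) * φ g := by group
        _ = x * (g⁻¹ * φ g) := by rw [h1]; group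
    obtain ⟨u, hu, he⟩ : ∃ u ∈ V, g⁻¹ * u * g * u⁻¹ = g⁻¹ * φ g := by
      have ib : b⁻¹ = b := inv_eq_of_mul_eq_one_right hb
      have ic : c⁻¹ = c := inv_eq_of_mul_eq_one_right hc
      have inv_conj : ∀ {x y : L}, g * x * g⁻¹ = y → g⁻¹ * y * g = x := fun h => by rw [← h]; group
      have e1 : g⁻¹ * b * g = b * c := inv_conj gbc
      have e2 : g⁻¹ * c * g = b := inv_conj hgb
      have e3 : g⁻¹ * (b * c) * g = c := inv_conj hgc
      rcases (hVmem _).mp hz with e | e | e | e <;> rw [e]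
      · exact ⟨1, one_mem _, by simp⟩
      · exact ⟨b * c, bcV, by rw [e3, mul_inv_rev, ib, ic, ← mul_assoc, hc, one_mul]⟩
      · exact ⟨b, bV, by rw [e1, ib, hcomm, mul_assoc, hb, mul_one]⟩
      · exact ⟨c, cV, by rw [e2, ic]⟩
    have hug : φ g = u * g * u⁻¹ := by
      calc φ g = g * (g⁻¹ * φ g) := by group
        _ = u * g * u⁻¹ := by rw [← he]; group
    refine ⟨u, show u ∈ (P : Subgroup L) from hPV.symm ▸ hu, ?_⟩
    have heq := htop (MonoidHom.eqLocus φ.toMonoidHom (MulAut.conj u).toMonoidHom) (fun x hx => by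
        show φ x = u * x * u⁻¹
        rw [hφ x (show x ∈ (P : Subgroup L) from hPV.symm ▸ hx)]
        have : u * x = x * u := hVcomm u hu x hx
        rw [this, mul_inv_cancel_right]) (show φ g = u * g * u⁻¹ from hug)
    exact MulEquiv.ext fun x => (heq.ge (mem_top x) : _)

/-- The case `q = 3`. -/
theorem fr_of_three (D : Data G) {F : Type w} [Field F] [Fintype F] (h3 : Fintype.card F = 3)
    (i : D.N ≃* Matrix.ProjectiveSpecialLinearGroup (Fin 2) F) : Fr D := by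
  classical
  haveI : Fact (Nat.Prime 2) := ⟨Nat.prime_two⟩
  have hF : Odd (Fintype.card F) := ⟨1, by omega⟩
  have hcard : Nat.card D.N = 12 := by
    rw [Nat.card_congr i.toEquiv]
    have h := CfsgLib.SLCard.gcd_mul_card_PSL (F := F) (n := 2) (by norm_num)
    rw [CfsgLib.SLCard.card_SL_two, h3, show Nat.gcd 2 (3 - 1) = 2 from rfl] at h
    omega
  obtain ⟨H, ⟨e⟩⟩ := PSL2Platonic.exists_A4 (F := F) (two_ne hF)
  let f : alternatingGroup (Fin 4) →* D.N := (i.symm.toMonoidHom.comp H.subtype).comp e.symm.toMonoidHom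
  have hf : Function.Injective f := (i.symm.injective.comp H.subtype_injective).comp e.symm.injective
  obtain ⟨g, b, c, h1, h2, h4, h5, h6, h7, h8, h9, h10, h11⟩ := CfsgLib.ReeTori.a4_data
  obtain ⟨P, hP⟩ := D.exists_sylowN
  obtain ⟨hmem, hodd, hauto⟩ := twelve hcard (g := f g) (b := f b) (c := f c) (by rw [← map_pow, h1, map_one])
    ((map_ne_one_iff f hf).mpr h2) (by rw [← map_mul, h4, map_one]) ((map_ne_one_iff f hf).mpr h5)
    (by rw [← map_mul, h6, map_one]) ((map_ne_one_iff f hf).mpr h7) (fun e' => h8 (hf e'))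
    (by rw [← map_mul, h9, map_mul]) (by rw [← map_inv, ← map_mul, ← map_mul, h10])
    (by rw [← map_inv, ← map_mul, ← map_mul, h11, map_mul]) P
  set γ : G := (f g : G)
  set β : G := (f b : G)
  set κ : G := (f c : G)
  have memS : ∀ x : G, x ∈ D.N → (x ∈ D.S ↔ x = 1 ∨ x = β ∨ x = κ ∨ x = β * κ) := by
    intro x hx
    have h := hmem ⟨x, hx⟩
    rw [show (⟨x, hx⟩ : D.N) ∈ P ↔ x ∈ D.S from by
      show _ ∈ (P : Subgroup D.N) ↔ _
      rw [hP, Subgroup.mem_subgroupOf]; rfl] at h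
    simpa [Subtype.ext_iff, β, κ] using h
  have hββ : β * β = 1 := by simp only [β]; rw [← Subgroup.coe_mul, ← map_mul, h4, map_one]; rfl
  have hκκ : κ * κ = 1 := by simp only [κ]; rw [← Subgroup.coe_mul, ← map_mul, h6, map_one]; rfl
  have hβκ : β * κ = κ * β := by simp only [β, κ]; rw [← Subgroup.coe_mul, ← map_mul, h9, map_mul]; rfl
  have hγβ : γ * β * γ⁻¹ = κ := by
    simp only [γ, β, κ]; rw [← Subgroup.coe_inv, ← Subgroup.coe_mul, ← Subgroup.coe_mul, ← map_inv, ← map_mul,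
      ← map_mul, h10]
  have hγκ : γ * κ * γ⁻¹ = β * κ := by
    simp only [γ, β, κ]; rw [← Subgroup.coe_inv, ← Subgroup.coe_mul, ← Subgroup.coe_mul, ← map_inv, ← map_mul,
      ← map_mul, h11, map_mul]; rfl
  have hγm : γ * (β * κ) * γ⁻¹ = β := by
    calc γ * (β * κ) * γ⁻¹ = (γ * β * γ⁻¹) * (γ * κ * γ⁻¹) := by group
      _ = β := by rw [hγβ, hγκ, hβκ, ← mul_assoc, hκκ, one_mul]
  have hsqN : ∀ x ∈ D.S, x ∈ D.N → x * x = 1 := by
    intro x hx hxN
    rcases (memS x hxN).mp hx with rfl | rfl | rfl | rfl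
    · simp
    · exact hββ
    · exact hκκ
    · calc β * κ * (β * κ) = β * (κ * β) * κ := by group
        _ = (β * β) * (κ * κ) := by rw [← hβκ]; group
        _ = 1 := by rw [hββ, hκκ, one_mul]
  -- conjugation by an element of the Sylow subgroup is inner on `N`
  have form : ∀ x ∈ D.S, ∃ v ∈ D.S, v ∈ D.N ∧ (x = v ∨ x = D.t * v) := by
    intro x hx
    let φ : MulAut D.N :=
      { toFun := fun y => ⟨x * y * x⁻¹, D.Nn x (D.S_le hx) y y.2⟩
        invFun := fun y => ⟨x⁻¹ * y * x⁻¹⁻¹, D.Nn x⁻¹ (inv_mem (D.S_le hx)) y y.2⟩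
        left_inv := fun y => Subtype.ext (by simp [mul_assoc])
        right_inv := fun y => Subtype.ext (by simp [mul_assoc])
        map_mul' := fun y z => Subtype.ext (by simp [mul_assoc]) }
    obtain ⟨v, hv, he⟩ := hauto φ fun y hy => Subtype.ext (by
      rw [show (y ∈ P) = ((y : D.N) ∈ (P : Subgroup D.N)) from rfl, hP, Subgroup.mem_subgroupOf] at hy
      show x * y * x⁻¹ = y
      rw [D.comm hx hy, mul_inv_cancel_right])
    have hvS : (v : G) ∈ D.S := by
      have : v ∈ (P : Subgroup D.N) := hv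
      rwa [hP, Subgroup.mem_subgroupOf] at this
    have hc : (v : G)⁻¹ * x ∈ centralizer ({D.t} : Set G) := mul_mem (inv_mem (D.NC v.2)) (D.S_le hx)
    rcases D.cent _ hc (fun y hy => by
      have h : x * y * x⁻¹ = v * y * (v : G)⁻¹ := congrArg Subtype.val (MulEquiv.congr_fun he ⟨y, hy⟩)
      calc (v : G)⁻¹ * x * y = (v : G)⁻¹ * (x * y * x⁻¹) * x := by group
        _ = y * ((v : G)⁻¹ * x) := by rw [h]; group) with h | h
    · exact ⟨v, hvS, v.2, Or.inl (inv_mul_eq_one.mp h).symm⟩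
    · refine ⟨v, hvS, v.2, Or.inr ?_⟩
      rw [inv_mul_eq_iff_eq_mul] at h
      rw [h, D.comm hvS D.tS]
  have hγn : γ ∈ normalizer ((D.S : Subgroup G) : Set G) := Subgroup.mem_normalizer_fintype fun x hx => by
    show γ * x * γ⁻¹ ∈ (D.S : Subgroup G)
    have key : ∀ v ∈ D.S, v ∈ D.N → γ * v * γ⁻¹ ∈ (D.S : Subgroup G) := by
      intro v hv hvN
      refine (memS _ (mul_mem (mul_mem (f g).2 hvN) (inv_mem (f g).2))).mpr ?_
      rcases (memS v hvN).mp hv with rfl | rfl | rfl | rfl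
      · simp
      · exact Or.inr (Or.inr (Or.inl hγβ))
      · exact Or.inr (Or.inr (Or.inr hγκ))
      · exact Or.inr (Or.inl hγm)
    obtain ⟨v, hv, hvN, rfl | rfl⟩ := form x hx
    · exact key _ hv hvN
    · rw [show γ * (D.t * v) * γ⁻¹ = (γ * D.t * γ⁻¹) * (γ * v * γ⁻¹) by group, D.t_central (D.NC (f g).2)]
      exact mul_mem D.tS (key v hv hvN)
  have hβ1 : β ≠ 1 := fun e' => h5 (hf (by rw [map_one]; exact Subtype.ext e'))
  have hκ1 : κ ≠ 1 := fun e' => h7 (hf (by rw [map_one]; exact Subtype.ext e'))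
  refine ⟨fun x hx => ?_, form, ?_, ?_, ⟨β, κ, (memS β (f b).2).mpr (by simp), (f b).2,
    (memS κ (f c).2).mpr (by simp), (f c).2, hβ1, hκ1, fun e' => h8 (hf (Subtype.ext e'))⟩, fun R hR hRodd hn => ?_⟩
  · obtain ⟨v, hv, hvN, rfl | rfl⟩ := form x hx
    · exact hsqN _ hv hvN
    · calc D.t * v * (D.t * v) = D.t * (v * D.t) * v := by group
        _ = (D.t * D.t) * (v * v) := by rw [D.comm hv D.tS]; group
        _ = 1 := by rw [D.t_sq, hsqN v hv hvN, one_mul]
  · intro v w x hv hvN hw hwN hx hxN hv1 hw1 hvw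
    have a1 : β * (β * κ) = κ := by rw [← mul_assoc, hββ, one_mul]
    have a2 : κ * β = β * κ := hβκ.symm
    have a3 : κ * (β * κ) = β := by rw [← mul_assoc, a2, mul_assoc, hκκ, mul_one]
    have a4 : β * κ * β = κ := by rw [mul_assoc, a2, a1]
    have a5 : β * κ * κ = β := by rw [mul_assoc, hκκ, mul_one]
    rcases (memS v hvN).mp hv with rfl | rfl | rfl | rfl <;> rcases (memS w hwN).mp hw with rfl | rfl | rfl | rfl <;>
      rcases (memS x hxN).mp hx with rfl | rfl | rfl | rfl <;>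
      first
        | exact absurd rfl hv1
        | exact absurd rfl hw1
        | exact absurd rfl hvw
        | simp [hββ, hκκ, a1, a2, a3, a4, a5]
  · intro v w hv hvN hw hwN hv1 hw1
    have hγ2 : ∀ y : G, γ ^ 2 * y * (γ ^ 2)⁻¹ = γ * (γ * y * γ⁻¹) * γ⁻¹ := fun y => by rw [pow_two]; group
    have h0 : ∀ y : G, (1 : G) * y * (1 : G)⁻¹ = y := fun y => by simp
    rcases (memS v hvN).mp hv with rfl | rfl | rfl | rfl <;> rcases (memS w hwN).mp hw with rfl | rfl | rfl | rfl <;>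
      first
        | exact absurd rfl hv1
        | exact absurd rfl hw1
        | exact ⟨1, one_mem _, one_mem _, h0 _⟩
        | exact ⟨γ, (f g).2, hγn, by assumption⟩
        | exact ⟨γ ^ 2, pow_mem (f g).2 2, pow_mem hγn 2, by rw [hγ2]; simp [hγβ, hγκ, hγm]⟩
  · haveI : (R.subgroupOf D.N).Normal := ⟨fun r hr n => hn n n.2 r hr⟩
    have := hodd (R.subgroupOf D.N) inferInstance (by rwa [Nat.card_congr (Subgroup.subgroupOfEquivOfLe hR).toEquiv])
    exact (Subgroup.subgroupOf_eq_bot.mp this).eq_bot_of_le hR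

end CfsgLib.AbCentMax
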