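import Cfsg.Agent.Lib.AbCentMax.Matrix
import Cfsg.Agent.Lib.AbCentMax.Frame
import Cfsg.Agent.Lib.Bender.GoodAll
import Cfsg.Agent.Lib.Bender.ConsPoint
import Cfsg.Agent.Lib.ZStar.Main
import Cfsg.Agent.Lib.GoldschmidtS3.Families

/-!
An involution centraliser `⟨t⟩ × E` with `E₀ ≅ PSL₂(q)`, `q` odd, and abelian Sylow 2-subgroups is maximal.
-/

set_option autoImplicit false
set_option linter.unusedSectionVars false
set_option linter.style.haveILetI false

namespace CfsgLib.AbCentMax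

open Subgroup CfsgLib.JankoReeMult

universe u

variable {G : Type u} [Group G] [Finite G]

/-- The conjugates of an element under a subgroup. -/
def cls (H : Subgroup G) (x : G) : Set G := {y | ∃ h ∈ H, h * x * h⁻¹ = y}

theorem self_mem_cls (H : Subgroup G) (x : G) : x ∈ cls H x := ⟨1, one_mem H, by simp⟩

theorem conj_mem_cls {H : Subgroup G} {x y h : G} (hy : y ∈ cls H x) (hh : h ∈ H) : h * y * h⁻¹ ∈ cls H x := by
  obtain ⟨k, hk, rfl⟩ := hy
  exact ⟨h * k, mul_mem hh hk, by group⟩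

theorem ncard_cls (H : Subgroup G) (x : G) :
    (cls H x).ncard = ((centralizer ({x} : Set G)).subgroupOf H).index := by
  letI : MulAction H G := MulAction.compHom G ((MulAut.conj (G := G)).comp H.subtype)
  have e1 : cls H x = MulAction.orbit H x := by
    ext y
    constructor
    · rintro ⟨h, hh, rfl⟩; exact ⟨⟨h, hh⟩, rfl⟩
    · rintro ⟨h, rfl⟩; exact ⟨h, h.2, rfl⟩
  have e2 : (centralizer ({x} : Set G)).subgroupOf H = MulAction.stabilizer H x := by
    ext h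
    rw [Subgroup.mem_subgroupOf, Subgroup.mem_centralizer_singleton_iff, MulAction.mem_stabilizer_iff]
    show _ ↔ (h : G) * x * (h : G)⁻¹ = x
    rw [mul_inv_eq_iff_eq_mul]
  rw [e1, e2, MulAction.index_stabilizer]

theorem ncard_cls_dvd (H : Subgroup G) (x : G) : (cls H x).ncard ∣ Nat.card H := by
  rw [ncard_cls]; exact Subgroup.index_dvd_card _

theorem odd_cls (S : Sylow 2 G) (H : Subgroup G) (hSH : (S : Subgroup G) ≤ H) (x : G)
    (hx : ∀ s ∈ (S : Subgroup G), s * x = x * s) : Odd (cls H x).ncard := by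
  haveI : Fact (Nat.Prime 2) := ⟨Nat.prime_two⟩
  rw [ncard_cls, ← Nat.not_even_iff_odd, even_iff_two_dvd]
  intro h
  have h1 : ((S : Subgroup G).subgroupOf H) ≤ (centralizer ({x} : Set G)).subgroupOf H := fun s hs =>
    Subgroup.mem_centralizer_singleton_iff.mpr (hx _ hs)
  exact S.not_dvd_index ((h.trans (Subgroup.index_dvd_of_le h1)).trans (Dvd.intro _ (Subgroup.relIndex_mul_index hSH)))

theorem ncard_four {α : Type*} {a b c d : α} (ab : a ≠ b) (ac : a ≠ c) (ad : a ≠ d) (bc : b ≠ c) (bd : b ≠ d)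
    (cd : c ≠ d) : ({a, b, c, d} : Set α).ncard = 4 := by
  rw [Set.ncard_insert_of_notMem (by simp [ab, ac, ad]), Set.ncard_insert_of_notMem (by simp [bc, bd]),
    Set.ncard_pair cd]

/-- Fusion in a subgroup containing an abelian Sylow subgroup. -/
theorem fusion (S : Sylow 2 G) (hab : IsMulCommutative (S : Subgroup G)) {M : Subgroup G}
    (hSM : (S : Subgroup G) ≤ M) {x g : G} (hx : x ∈ (S : Subgroup G)) (hg : g ∈ M)
    (hgx : g * x * g⁻¹ ∈ (S : Subgroup G)) :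
    ∃ n ∈ M ⊓ normalizer ((S : Subgroup G) : Set G), n * x * n⁻¹ = g * x * g⁻¹ := by
  haveI : Fact (Nat.Prime 2) := ⟨Nat.prime_two⟩
  let P : Sylow 2 M := S.subtype hSM
  haveI : IsMulCommutative (P : Subgroup M) := ⟨⟨fun a b => Subtype.ext (Subtype.ext (by
    simpa using congrArg Subtype.val (hab.is_comm.comm (⟨(a : M), a.2⟩ : (S : Subgroup G)) ⟨(b : M), b.2⟩)))⟩⟩
  obtain ⟨n, hn, he⟩ := P.conj_eq_normalizer_conj_of_mem (⟨x, hSM hx⟩ : M) (⟨g, hg⟩⁻¹ : M) hx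
    (by show (g⁻¹)⁻¹ * x * g⁻¹ ∈ (S : Subgroup G); rwa [inv_inv])
  refine ⟨((n : M) : G)⁻¹, Subgroup.mem_inf.mpr ⟨inv_mem n.2, ?_⟩, ?_⟩
  · refine inv_mem (Subgroup.mem_normalizer_fintype fun s hs => ?_)
    exact (Subgroup.mem_normalizer_iff.mp hn (⟨s, hSM hs⟩ : M)).mp hs
  · have := congrArg Subtype.val he
    push_cast at this
    rw [inv_inv] at this
    rw [inv_inv]; exact this.symm

structure Setting (G : Type u) [Group G] [Finite G] where
  D : Data G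
  fr : Fr D
  E : Subgroup G
  hdp : Cfsg.IsInternalDirectProduct (zpowers D.t) E (centralizer ({D.t} : Set G))
  NE : D.N ≤ E

namespace Setting

variable (A : Setting G)

/-- The centraliser of `t`. -/
abbrev C : Subgroup G := centralizer ({A.D.t} : Set G)

theorem t_not_E : A.D.t ∉ A.E := fun h => by
  have h1 : A.D.t ∈ zpowers A.D.t ⊓ A.E := Subgroup.mem_inf.mpr ⟨mem_zpowers _, h⟩
  rw [A.hdp.2.2.2.1, Subgroup.mem_bot] at h1
  exact A.D.t_ne h1

theorem t_not_N : A.D.t ∉ A.D.N := fun h => A.t_not_E (A.NE h)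

theorem t_inv : (A.D.t)⁻¹ = A.D.t := inv_eq_of_mul_eq_one_right A.D.t_sq

theorem tmul_not_E {e : G} (he : e ∈ A.E) : A.D.t * e ∉ A.E := fun h =>
  A.t_not_E (by simpa using mul_mem h (inv_mem he))

theorem t_comm_E {e : G} (he : e ∈ A.E) : A.D.t * e = e * A.D.t := A.hdp.2.2.1 _ (mem_zpowers _) e he

theorem E_conj {c e : G} (hc : c ∈ A.C) (he : e ∈ A.E) : c * e * c⁻¹ ∈ A.E := by
  obtain ⟨f, hf, rfl | rfl⟩ := mem_product A.D.ht A.hdp hc
  · exact mul_mem (mul_mem hf he) (inv_mem hf)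
  · have h := mul_mem (mul_mem hf he) (inv_mem hf)
    rw [show A.D.t * f * e * (A.D.t * f)⁻¹ = A.D.t * (f * e * f⁻¹) * (A.D.t)⁻¹ by group, A.t_comm_E h, mul_inv_cancel_right]
    exact h

theorem odd_mem_E {x : G} (hx : x ∈ A.C) (hodd : Odd (orderOf x)) : x ∈ A.E := by
  obtain ⟨e, he, rfl | rfl⟩ := mem_product A.D.ht A.hdp hx
  · exact he
  · exfalso
    obtain ⟨k, hk⟩ := hodd
    have h1 : (A.D.t * e) ^ (2 * k + 1) = 1 := by rw [← hk]; exact pow_orderOf_eq_one _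
    rw [(show Commute A.D.t e from A.t_comm_E he).mul_pow, pow_succ, pow_mul, pow_two, A.D.t_sq, one_pow, one_mul,
      mul_eq_one_iff_eq_inv] at h1
    exact A.t_not_E (h1 ▸ inv_mem (pow_mem he _))

/-- An involution of `E` is conjugate in `C(t)` to one of `S ∩ N`. -/
theorem exists_conj_SN {e : G} (he : e ∈ A.E) (he1 : e ≠ 1) (he2 : e * e = 1) :
    ∃ c ∈ A.C, c⁻¹ * e * c ∈ A.D.S ∧ c⁻¹ * e * c ∈ A.D.N ∧ c⁻¹ * e * c ≠ 1 := by
  haveI : Fact (Nat.Prime 2) := ⟨Nat.prime_two⟩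
  have heC : e ∈ A.C := A.hdp.2.1 he
  let P : Sylow 2 A.C := A.D.S.subtype A.D.S_le
  have hz : IsPGroup 2 (zpowers (⟨e, heC⟩ : A.C)) := IsPGroup.of_card (n := 1) (by
    rw [Nat.card_zpowers, pow_one]
    exact orderOf_eq_prime (Subtype.ext (by rw [SubmonoidClass.coe_pow, pow_two]; exact he2))
      fun h => he1 (congrArg Subtype.val h))
  obtain ⟨Q, hQ⟩ := hz.exists_le_sylow
  obtain ⟨c, hc⟩ := MulAction.exists_smul_eq A.C P Q
  have hm : (⟨e, heC⟩ : A.C) ∈ ((c • P : Sylow 2 A.C) : Subgroup A.C) := by rw [hc]; exact hQ (mem_zpowers _)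
  obtain ⟨s, hs, hse⟩ := hm
  have hse' : (c : G) * s * (c : G)⁻¹ = e := congrArg Subtype.val hse
  have hsv : (c : G)⁻¹ * e * c = s := by rw [← hse']; group
  have hs' : (s : G) ∈ A.D.S := hs
  refine ⟨c, c.2, hsv ▸ hs', ?_, fun h => he1 ?_⟩
  · obtain ⟨v, -, hvN, h | h⟩ := A.fr.form (s : G) hs'
    · rw [hsv, h]; exact hvN
    · exfalso
      have h1 : (c : G)⁻¹ * e * c ∈ A.E := by simpa using A.E_conj (inv_mem c.2) he
      rw [hsv, h] at h1
      exact A.tmul_not_E (A.NE hvN) h1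
  · rw [show e = (c : G) * ((c : G)⁻¹ * e * c) * (c : G)⁻¹ by group, h]; group

theorem mem_N_of_invol {e : G} (he : e ∈ A.E) (he1 : e ≠ 1) (he2 : e * e = 1) : e ∈ A.D.N := by
  obtain ⟨c, hc, -, hN, -⟩ := A.exists_conj_SN he he1 he2
  have := A.D.Nn c hc _ hN
  rwa [show c * (c⁻¹ * e * c) * c⁻¹ = e by group] at this

/-- An odd subgroup normalised by `C(t)` meets `C(t)` trivially. -/
theorem cent_odd_trivial {R : Subgroup G} (hodd : Odd (Nat.card R)) (hn : ∀ c ∈ A.C, ∀ r ∈ R, c * r * c⁻¹ ∈ R) :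
    ∀ x ∈ R, x ∈ A.C → x = 1 := by
  intro x hx hxC
  have hRN := A.fr.oddN (R ⊓ A.D.N) inf_le_right (hodd.of_dvd_nat (Subgroup.card_dvd_of_le inf_le_left))
    fun n hnN r hr => Subgroup.mem_inf.mpr ⟨hn n (A.D.NC hnN) r hr.1, A.D.N.mul_mem (A.D.N.mul_mem hnN hr.2) (A.D.N.inv_mem hnN)⟩
  have hc : ∀ n ∈ A.D.N, x * n = n * x := fun n hnN => by
    have h1 : n * x * n⁻¹ * x⁻¹ ∈ R ⊓ A.D.N := Subgroup.mem_inf.mpr
      ⟨R.mul_mem (hn n (A.D.NC hnN) x hx) (R.inv_mem hx), by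
        rw [show n * x * n⁻¹ * x⁻¹ = n * (x * n⁻¹ * x⁻¹) by group]
        exact mul_mem hnN (A.D.Nn x hxC _ (inv_mem hnN))⟩
    rw [hRN, Subgroup.mem_bot, mul_inv_eq_one, mul_inv_eq_iff_eq_mul] at h1
    exact h1.symm
  rcases A.D.cent x hxC hc with h | h
  · exact h
  · exfalso
    have h2 : 2 ∣ Nat.card R := A.D.ht ▸ h ▸ Subgroup.orderOf_dvd_natCard R hx
    exact Nat.not_even_iff_odd.mpr hodd (even_iff_two_dvd.mpr h2)

/-- The seven involutions. -/
theorem cases {s : G} (hs : s ∈ A.D.S) (hs1 : s ≠ 1) :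
    s = A.D.t ∨ ∃ v ∈ A.D.S, v ∈ A.D.N ∧ v ≠ 1 ∧ (s = v ∨ s = A.D.t * v) := by
  obtain ⟨v, hv, hvN, h⟩ := A.fr.form s hs
  by_cases hv1 : v = 1
  · subst hv1
    rcases h with h | h
    · exact absurd h hs1
    · exact Or.inl (by rw [h, mul_one])
  · exact Or.inr ⟨v, hv, hvN, hv1, h⟩

theorem card_S : Nat.card (A.D.S : Subgroup G) = 8 := by
  classical
  obtain ⟨v, w, hv, hvN, hw, hwN, hv1, hw1, hne⟩ := A.fr.pair
  have hK : ((A.D.S : Subgroup G) ⊓ A.D.N : Subgroup G).carrier = {1, v, w, v * w} := by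
    ext x
    constructor
    · intro hx; simpa using A.fr.four v w x hv hvN hw hwN hx.1 hx.2 hv1 hw1 hne
    · rintro (rfl | rfl | rfl | rfl) <;> show _ ∈ ((A.D.S : Subgroup G) ⊓ A.D.N : Subgroup G)
      exacts [one_mem _, ⟨hv, hvN⟩, ⟨hw, hwN⟩, ⟨mul_mem hv hw, mul_mem hvN hwN⟩]
  have hvw : v * w ≠ 1 := fun e => hne ((mul_eq_one_iff_eq_inv.mp e).trans
    (inv_eq_of_mul_eq_one_right (A.fr.sq w hw)))
  have hK4 : Nat.card ((A.D.S : Subgroup G) ⊓ A.D.N : Subgroup G) = 4 := by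
    rw [show Nat.card ((A.D.S : Subgroup G) ⊓ A.D.N : Subgroup G) =
      ((A.D.S : Subgroup G) ⊓ A.D.N : Subgroup G).carrier.ncard from (Nat.card_coe_set_eq _).trans rfl, hK]
    exact ncard_four hv1.symm hw1.symm hvw.symm hne (by simpa using hw1) (by simpa using hv1)
  let f : Bool × ↥((A.D.S : Subgroup G) ⊓ A.D.N) → (A.D.S : Subgroup G) := fun p =>
    ⟨(if p.1 then A.D.t else 1) * p.2, mul_mem (by split_ifs; exacts [A.D.tS, one_mem _]) p.2.2.1⟩
  have hf : Function.Bijective f := by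
    refine ⟨?_, fun s => ?_⟩
    · rintro ⟨i, x⟩ ⟨j, y⟩ h
      have h' : (if i then A.D.t else 1) * (x : G) = (if j then A.D.t else 1) * y := congrArg Subtype.val h
      cases i <;> cases j <;> simp only [Bool.false_eq_true, if_false, if_true, one_mul] at h'
      · exact Prod.ext rfl (Subtype.ext h')
      · exact absurd (h' ▸ A.NE x.2.2) (A.tmul_not_E (A.NE y.2.2))
      · exact absurd (h'.symm ▸ A.NE y.2.2) (A.tmul_not_E (A.NE x.2.2))
      · exact Prod.ext rfl (Subtype.ext (mul_left_cancel h'))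
    · obtain ⟨x, hx, hxN, h | h⟩ := A.fr.form s s.2
      · exact ⟨(false, ⟨x, hx, hxN⟩), Subtype.ext (by simp [f, h])⟩
      · exact ⟨(true, ⟨x, hx, hxN⟩), Subtype.ext (by simp [f, h])⟩
  rw [← Nat.card_congr (Equiv.ofBijective f hf), Nat.card_prod, hK4, Nat.card_eq_fintype_card, Fintype.card_bool]

variable [IsSimpleGroup G]

/-- All involutions of `M` conjugate to `t`: impossible by Bender's theorem. -/
theorem false_of_fused {M : Subgroup G} (hCM : A.C ≤ M) (hM : M ≠ ⊤)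
    (hall : ∀ s ∈ A.D.S, s ≠ 1 → s ∈ cls (M ⊓ normalizer ((A.D.S : Subgroup G) : Set G)) A.D.t) : False := by
  haveI : Fact (Nat.Prime 2) := ⟨Nat.prime_two⟩
  set S := A.D.S with hS
  have hSM : (S : Subgroup G) ≤ M := A.D.S_le.trans hCM
  set H := M ⊓ normalizer ((S : Subgroup G) : Set G) with hH
  have hconj : ∀ j ∈ M, orderOf j = 2 → ∃ m ∈ M, m * A.D.t * m⁻¹ = j := by
    intro j hj hjo
    let P : Sylow 2 M := S.subtype hSM
    have hz : IsPGroup 2 (zpowers (⟨j, hj⟩ : M)) :=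
      IsPGroup.of_card (n := 1) (by rw [Nat.card_zpowers, pow_one, Subgroup.orderOf_mk, hjo])
    obtain ⟨Q, hQ⟩ := hz.exists_le_sylow
    obtain ⟨c, hc⟩ := MulAction.exists_smul_eq M P Q
    have hm : (⟨j, hj⟩ : M) ∈ ((c • P : Sylow 2 M) : Subgroup M) := by rw [hc]; exact hQ (mem_zpowers _)
    obtain ⟨s, hs, hsj⟩ := hm
    have hsj' : (c : G) * s * (c : G)⁻¹ = j := congrArg Subtype.val hsj
    have hs1 : (s : G) ≠ 1 := fun e => by
      rw [e, mul_one, mul_inv_cancel] at hsj'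
      rw [← hsj', orderOf_one] at hjo
      omega
    obtain ⟨h, hh, hhs⟩ := hall s hs hs1
    exact ⟨c * h, mul_mem c.2 hh.1, by rw [← hsj', ← hhs]; group⟩
  have hSE : Cfsg.IsStronglyEmbedded M := by
    refine ⟨hM, even_iff_two_dvd.mpr (A.D.ht ▸ Subgroup.orderOf_dvd_natCard M (hSM A.D.tS)), fun g hg => ?_⟩
    rw [← Nat.not_even_iff_odd, even_iff_two_dvd]
    intro h2
    obtain ⟨⟨j, hjM, hjg⟩, hj⟩ := exists_prime_orderOf_dvd_card' 2 h2
    rw [← Subgroup.orderOf_coe] at hj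
    change orderOf j = 2 at hj
    obtain ⟨k, hkM, hkj⟩ := hjg
    have hkj' : g * k * g⁻¹ = j := hkj
    obtain ⟨m1, hm1, e1⟩ := hconj j hjM hj
    obtain ⟨m2, hm2, e2⟩ := hconj k hkM (by
      rw [← hj, ← hkj', ← MulAut.conj_apply, MulEquiv.orderOf_eq])
    have hc : m1⁻¹ * g * m2 ∈ A.C := Subgroup.mem_centralizer_singleton_iff.mpr (by
      calc m1⁻¹ * g * m2 * A.D.t = m1⁻¹ * (g * (m2 * A.D.t * m2⁻¹) * g⁻¹) * g * m2 := by group
        _ = A.D.t * (m1⁻¹ * g * m2) := by rw [e2, hkj', ← e1]; group)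
    have hgM := mul_mem (mul_mem hm1 (hCM hc)) (inv_mem hm2)
    rw [show m1 * (m1⁻¹ * g * m2) * m2⁻¹ = g by group] at hgM
    exact hg hgM
  obtain ⟨Q, t', -, -, -, -, -, -, -, -, S1, -, hMS1⟩ := Bender.point_facts
    (Bender.Assembly.benderHyp Bender.Assembly.goodAll) hSE (Bender.normalCore_eq_bot hSE)
    (Bender.hasFour_of_simple hSE)
  have hMn : M ≤ normalizer ((S : Subgroup G) : Set G) := by
    have hsup := S.2.to_sup_of_normal_right' S1.2 (hMS1 ▸ hSM)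
    have e1 := S1.3 hsup le_sup_right
    have e2 := S.3 hsup le_sup_left
    rw [show (S : Subgroup G) = S1 from e2.symm.trans e1, ← hMS1]
  -- the order of `M`
  obtain ⟨v, w, hv, hvN, hw, hwN, hv1, hw1, hne⟩ := A.fr.pair
  have h7 : 7 ∣ Nat.card M := by
    have hset : cls H A.D.t = ((S : Subgroup G) : Set G) \ {1} := by
      ext s
      constructor
      · rintro ⟨h, hh, rfl⟩
        exact ⟨(Subgroup.mem_normalizer_iff.mp hh.2 _).mp A.D.tS, fun e => A.D.t_ne (conj_eq_one_iff.mp e)⟩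
      · exact fun h => hall s h.1 h.2
    refine ((?_ : 7 ∣ (cls H A.D.t).ncard).trans (ncard_cls_dvd H A.D.t)).trans (Subgroup.card_dvd_of_le inf_le_left)
    rw [hset, Set.ncard_diff_singleton_of_mem (one_mem (S : Subgroup G)), ← Nat.card_coe_set_eq,
      SetLike.coe_sort_coe, A.card_S]
  have h3 : 3 ∣ Nat.card M := by
    set K := A.D.N ⊓ normalizer ((S : Subgroup G) : Set G)
    have hvw : v * w ≠ 1 := fun e => hne ((mul_eq_one_iff_eq_inv.mp e).trans
      (inv_eq_of_mul_eq_one_right (A.fr.sq w hw)))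
    have hset : cls K v = {v, w, v * w} := by
      ext s
      constructor
      · rintro ⟨h, hh, rfl⟩
        rcases A.fr.four v w _ hv hvN hw hwN ((Subgroup.mem_normalizer_iff.mp hh.2 _).mp hv)
          (mul_mem (mul_mem hh.1 hvN) (inv_mem hh.1)) hv1 hw1 hne with e | e | e | e
        · exact absurd (conj_eq_one_iff.mp e) hv1
        all_goals simp [e]
      · intro hs
        have key : ∀ x ∈ S, x ∈ A.D.N → x ≠ 1 → x ∈ cls K v := fun x hx hxN hx1 => by
          obtain ⟨n, hn, hn2, e⟩ := A.fr.conjV v x hv hvN hx hxN hv1 hx1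
          exact ⟨n, ⟨hn, hn2⟩, e⟩
        rcases hs with rfl | rfl | rfl
        exacts [key _ hv hvN hv1, key _ hw hwN hw1, key _ (mul_mem hv hw) (mul_mem hvN hwN) hvw]
    refine ((?_ : 3 ∣ (cls K v).ncard).trans (ncard_cls_dvd K v)).trans
      (Subgroup.card_dvd_of_le (inf_le_left.trans (A.D.NC.trans hCM)))
    rw [hset, Set.ncard_insert_of_notMem (by simp [hne, hw1]), Set.ncard_pair (by simpa using hv1)]
  have h8 : 8 ∣ Nat.card M := A.card_S ▸ Subgroup.card_dvd_of_le hSM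
  have h168 : 168 ∣ Nat.card M :=
    Nat.Coprime.mul_dvd_of_dvd_of_dvd (m := 8 * 3) (by norm_num)
      (Nat.Coprime.mul_dvd_of_dvd_of_dvd (by norm_num) h8 h3) h7
  have hpow : ∀ k : ℕ, 2 ^ k ∣ Nat.card G → 2 ^ k ≤ 8 := fun k hk => by
    rw [← A.card_S]
    exact Nat.le_of_dvd Nat.card_pos (S.pow_dvd_card_of_pow_dvd_card hk)
  rcases Bender.isBenderGroup_of_stronglyEmbedded (Bender.Assembly.benderHyp Bender.Assembly.goodAll)
    Bender.Assembly.suzukiHyp hSE with ⟨F, i1, i2, ⟨n, hn, hcF⟩, ⟨e⟩⟩ | hsz | ⟨F, i1, i2, n, hn, hcF, ⟨e⟩⟩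
  · have hc := GoldschmidtS3.psl_card (F := F)
    rw [hcF, ← Nat.card_congr e.toEquiv] at hc
    have h1 : 1 ≤ 2 ^ n := Nat.one_le_two_pow
    have he : 2 ∣ 2 ^ n := dvd_pow_self 2 (by omega)
    rw [show Nat.gcd 2 (2 ^ n - 1) = 1 from Nat.coprime_two_left.mpr (Nat.odd_iff.mpr (by omega)), one_mul] at hc
    have h8' : Nat.card (S : Subgroup G) = 2 ^ n := BinaryCoset.card_sylow_two hc
      (Nat.odd_iff.mpr (by
        have : 2 ∣ (2 ^ n) ^ 2 := dvd_pow he two_ne_zero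
        have : 1 ≤ (2 ^ n) ^ 2 := Nat.one_le_pow _ _ (by omega)
        omega)) S
    rw [A.card_S] at h8'
    have hn3 : n = 3 := Nat.pow_right_injective le_rfl (show (2 : ℕ) ^ n = 2 ^ 3 by rw [← h8'])
    rw [hn3] at hc
    norm_num at hc
    have hidx := Subgroup.card_mul_index M
    rw [hc] at hidx
    have hi3 : M.index ≤ 3 := by
      have := Nat.le_of_dvd Nat.card_pos h168
      nlinarith
    have hcore : M.normalCore = ⊥ := Bender.normalCore_eq_bot hSE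
    haveI : Finite (G ⧸ M) := inferInstance
    have hinj : Function.Injective (MulAction.toPermHom G (G ⧸ M)) := by
      rw [← MonoidHom.ker_eq_bot_iff, ← Subgroup.normalCore_eq_ker, hcore]
    have hle := Nat.card_le_card_of_injective _ hinj
    rw [hc, Nat.card_perm, ← Subgroup.index_eq_card] at hle
    have : M.index.factorial ≤ Nat.factorial 3 := Nat.factorial_le hi3
    simp [Nat.factorial] at this
    omega
  · obtain ⟨-, m, hm, hc⟩ := Bender.isSuzuki_of_iso hsz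
    have : 2 ^ 6 ∣ Nat.card G := by
      rw [hc, ← pow_mul]
      exact Dvd.dvd.mul_right (Dvd.dvd.mul_right (pow_dvd_pow 2 (by omega)) _) _
    have := hpow 6 this
    norm_num at this
  · obtain ⟨-, c, _, hq, ⟨e'⟩⟩ := BinaryCoset.ti_psu hn hcF e
    obtain ⟨T, -, hT, -⟩ := BinaryCoset.exists_sylow_model c
    have h8' := (BinaryCoset.card_sq_one_sylow e' S T).1
    rw [hT, hq, A.card_S, ← pow_mul] at h8'
    have : 2 ^ 6 ≤ 2 ^ (n * 3) := Nat.pow_le_pow_right two_pos (by omega)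
    rw [← h8'] at this
    norm_num at this

/-- A class of `t` bigger than one element is everything. -/
theorem all_of_moved {M : Subgroup G} (hCM : A.C ≤ M) {x : G}
    (hx : x ∈ cls (M ⊓ normalizer ((A.D.S : Subgroup G) : Set G)) A.D.t) (hxt : x ≠ A.D.t) :
    ∀ s ∈ A.D.S, s ≠ 1 → s ∈ cls (M ⊓ normalizer ((A.D.S : Subgroup G) : Set G)) A.D.t := by
  set S := A.D.S with hS
  set H := M ⊓ normalizer ((S : Subgroup G) : Set G) with hH
  have hsub : ∀ y ∈ cls H A.D.t, y ∈ S ∧ y ≠ 1 := fun y ⟨h, hh, e⟩ => by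
    subst e
    exact ⟨(Subgroup.mem_normalizer_iff.mp hh.2 _).mp A.D.tS, fun e => A.D.t_ne (conj_eq_one_iff.mp e)⟩
  have hodd : Odd (cls H A.D.t).ncard := odd_cls S H
    (le_inf (A.D.S_le.trans hCM) Subgroup.le_normalizer) _ fun s hs => A.D.comm hs A.D.tS
  have gen : ∀ v w : G, v ∈ S → v ∈ A.D.N → w ∈ S → w ∈ A.D.N → v ≠ 1 → w ≠ 1 →
      (v ∈ cls H A.D.t → w ∈ cls H A.D.t) ∧ (A.D.t * v ∈ cls H A.D.t → A.D.t * w ∈ cls H A.D.t) := by
    intro v w hv hvN hw hwN hv1 hw1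
    obtain ⟨n, hnN, hn, e⟩ := A.fr.conjV v w hv hvN hw hwN hv1 hw1
    have hnH : n ∈ H := ⟨hCM (A.D.NC hnN), hn⟩
    refine ⟨fun h => e ▸ conj_mem_cls h hnH, fun h => ?_⟩
    have := conj_mem_cls h hnH
    rwa [show n * (A.D.t * v) * n⁻¹ = (n * A.D.t * n⁻¹) * (n * v * n⁻¹) by group, A.D.t_central (A.D.NC hnN), e] at this
  obtain ⟨v, w, hv, hvN, hw, hwN, hv1, hw1, hne⟩ := A.fr.pair
  have hvw : v * w ≠ 1 := fun e => hne ((mul_eq_one_iff_eq_inv.mp e).trans
    (inv_eq_of_mul_eq_one_right (A.fr.sq w hw)))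
  have hvwv : v * w ≠ v := by simpa using hw1
  have hvww : v * w ≠ w := by simpa using hv1
  have htn : ∀ y ∈ A.D.N, A.D.t ≠ y := fun y hy e => A.t_not_N (e ▸ hy)
  -- each kind
  have hV : v ∈ cls H A.D.t := by
    by_contra hnot
    have hset : cls H A.D.t = {A.D.t, A.D.t * v, A.D.t * w, A.D.t * (v * w)} := by
      have noV : ∀ y ∈ S, y ∈ A.D.N → y ≠ 1 → y ∉ cls H A.D.t := fun y hy hyN hy1 h =>
        hnot ((gen y v hy hyN hv hvN hy1 hv1).1 h)
      have tV : A.D.t * v ∈ cls H A.D.t := by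
        rcases A.cases (hsub x hx).1 (hsub x hx).2 with e | ⟨y, hy, hyN, hy1, e | e⟩
        · exact absurd e hxt
        · exact absurd (e ▸ hx) (noV y hy hyN hy1)
        · exact (gen y v hy hyN hv hvN hy1 hv1).2 (e ▸ hx)
      ext y
      constructor
      · intro hy
        rcases A.cases (hsub y hy).1 (hsub y hy).2 with e | ⟨z, hz, hzN, hz1, e | e⟩
        · simp [e]
        · exact absurd (e ▸ hy) (noV z hz hzN hz1)
        · rcases A.fr.four v w z hv hvN hw hwN hz hzN hv1 hw1 hne with e' | e' | e' | e'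
          · exact absurd e' hz1
          all_goals simp [e, e']
      · rintro (rfl | rfl | rfl | rfl)
        exacts [self_mem_cls H _, tV, (gen v w hv hvN hw hwN hv1 hw1).2 tV,
          (gen v _ hv hvN (mul_mem hv hw) (mul_mem hvN hwN) hv1 hvw).2 tV]
    rw [hset, ncard_four (by simpa using hv1) (by simpa using hw1) (by simpa using hvw) (by simpa using hne)
      (by simpa using hvwv.symm) (by simpa using hvww.symm)] at hodd
    exact absurd hodd (by decide)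
  have hT : A.D.t * v ∈ cls H A.D.t := by
    by_contra hnot
    have hset : cls H A.D.t = {A.D.t, v, w, v * w} := by
      ext y
      constructor
      · intro hy
        rcases A.cases (hsub y hy).1 (hsub y hy).2 with e | ⟨z, hz, hzN, hz1, e | e⟩
        · simp [e]
        · rcases A.fr.four v w z hv hvN hw hwN hz hzN hv1 hw1 hne with e' | e' | e' | e'
          · exact absurd e' hz1
          all_goals simp [e, e']
        · exact absurd ((gen z v hz hzN hv hvN hz1 hv1).2 (e ▸ hy)) hnot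
      · rintro (h | h | h | h) <;> rw [h]
        exacts [self_mem_cls H _, hV, (gen v w hv hvN hw hwN hv1 hw1).1 hV,
          (gen v _ hv hvN (mul_mem hv hw) (mul_mem hvN hwN) hv1 hvw).1 hV]
    rw [hset, ncard_four (htn v hvN) (htn w hwN) (htn _ (mul_mem hvN hwN)) hne hvwv.symm hvww.symm] at hodd
    exact absurd hodd (by decide)
  intro s hs hs1
  rcases A.cases hs hs1 with e | ⟨y, hy, hyN, hy1, e | e⟩
  · exact e ▸ self_mem_cls H _
  · exact e ▸ (gen v y hv hvN hy hyN hv1 hy1).1 hV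
  · exact e ▸ (gen v y hv hvN hy hyN hv1 hy1).2 hT

/-- Some element of `S ∩ N` is conjugate to `t` in a simple group. -/
theorem exists_conj_t (hG : ¬ IsMulCommutative G) :
    ∃ v ∈ A.D.S, v ∈ A.D.N ∧ v ≠ 1 ∧ ∃ g : G, g * A.D.t * g⁻¹ = v := by
  by_contra hcon
  push Not at hcon
  obtain ⟨n, hn, hne⟩ := exists_move_t A.D hG
  set N2 := (⊤ : Subgroup G) ⊓ normalizer ((A.D.S : Subgroup G) : Set G)
  have hx : n * A.D.t * n⁻¹ ∈ cls N2 A.D.t := ⟨n, ⟨mem_top n, hn⟩, rfl⟩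
  obtain ⟨v, w, hv, hvN, -, -, hv1, -, -⟩ := A.fr.pair
  obtain ⟨h, -, he⟩ := A.all_of_moved (M := ⊤) le_top hx hne v hv hv1
  exact hcon v hv hvN hv1 h he

variable {F : Type} [Field F] [Fintype F]

/-- The isolated case. -/
theorem le_cent_of_isolated (hF : Odd (Fintype.card F))
    (i : A.D.N ≃* Matrix.ProjectiveSpecialLinearGroup (Fin 2) F) (hG : ¬ IsMulCommutative G)
    {M : Subgroup G} (hCM : A.C ≤ M)
    (hweak : ∀ g ∈ M, g * A.D.t * g⁻¹ ∈ A.D.S → g * A.D.t * g⁻¹ = A.D.t) : M ≤ A.C := by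
  haveI : Fact (Nat.Prime 2) := ⟨Nat.prime_two⟩
  have hSM : (A.D.S : Subgroup G) ≤ M := A.D.S_le.trans hCM
  let tM : M := ⟨A.D.t, hSM A.D.tS⟩
  have htM : orderOf tM = 2 := by rw [Subgroup.orderOf_mk]; exact A.D.ht
  have hiso : Cfsg.IsIsolated tM := CfsgLib.ZStar.isolated_of_sylow (A.D.S.subtype hSM) htM A.D.tS
    fun g hg => Subtype.ext (hweak g g.2 hg)
  set O : Subgroup G := (Cfsg.pPrimeCore 2 M).map M.subtype with hO
  have hOodd : Odd (Nat.card O) := by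
    rw [hO, Subgroup.card_map_of_injective M.subtype_injective]
    exact Nat.coprime_two_right.1 (CfsgLib.card_pPrimeCore_coprime 2)
  have hOM : O ≤ M := Subgroup.map_subtype_le _
  have hOn : ∀ g ∈ M, ∀ o ∈ O, g * o * g⁻¹ ∈ O := by
    rintro g hg _ ⟨o, ho, rfl⟩
    exact ⟨⟨g, hg⟩ * o * ⟨g, hg⟩⁻¹, (inferInstance : (Cfsg.pPrimeCore 2 M).Normal).conj_mem o ho _, rfl⟩
  have hcm : ∀ g ∈ M, A.D.t * g * (A.D.t)⁻¹ * g⁻¹ ∈ O := fun g hg =>
    ⟨_, CfsgLib.ZStar.commutator_mem htM hiso ⟨g, hg⟩, rfl⟩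
  have hC1 := A.cent_odd_trivial hOodd fun c hc => hOn c (hCM hc)
  -- `t` inverts `O`
  have hinv : ∀ o ∈ O, A.D.t * o * (A.D.t)⁻¹ = o⁻¹ := by
    intro o ho
    let f : O → O := fun z => ⟨(z : G)⁻¹ * (A.D.t * z * (A.D.t)⁻¹), mul_mem (inv_mem z.2) (hOn _ (hSM A.D.tS) _ z.2)⟩
    have hinj : Function.Injective f := fun a b e => by
      have e' : (a : G)⁻¹ * (A.D.t * a * (A.D.t)⁻¹) = (b : G)⁻¹ * (A.D.t * b * (A.D.t)⁻¹) := congrArg Subtype.val e
      refine Subtype.ext (mul_inv_eq_one.mp (hC1 _ (mul_mem b.2 (inv_mem a.2))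
        (Subgroup.mem_centralizer_singleton_iff.mpr ?_))).symm
      calc (b : G) * (a : G)⁻¹ * A.D.t = (b : G) * ((a : G)⁻¹ * (A.D.t * a * (A.D.t)⁻¹)) * (A.D.t * (a : G)⁻¹) := by group
        _ = A.D.t * ((b : G) * (a : G)⁻¹) := by rw [e']; group
    obtain ⟨z, hz⟩ := (Finite.injective_iff_surjective.mp hinj) ⟨o, ho⟩
    have hz' : (z : G)⁻¹ * (A.D.t * z * (A.D.t)⁻¹) = o := congrArg Subtype.val hz
    calc A.D.t * o * (A.D.t)⁻¹ = (A.D.t * (z : G)⁻¹ * (A.D.t)⁻¹) * ((A.D.t * A.D.t) * z * ((A.D.t)⁻¹ * (A.D.t)⁻¹)) := by rw [← hz']; group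
      _ = A.D.t * (z : G)⁻¹ * (A.D.t)⁻¹ * z := by
        rw [A.D.t_sq, one_mul, show (A.D.t)⁻¹ * (A.D.t)⁻¹ = 1 by rw [A.t_inv, A.D.t_sq], mul_one]
      _ = o⁻¹ := by rw [← hz']; group
  have hab : ∀ x ∈ O, ∀ y ∈ O, x * y = y * x := fun x hx y hy => by
    have h := hinv _ (mul_mem hx hy)
    rw [show A.D.t * (x * y) * (A.D.t)⁻¹ = (A.D.t * x * (A.D.t)⁻¹) * (A.D.t * y * (A.D.t)⁻¹) by group, hinv x hx, hinv y hy, mul_inv_rev] at h
    calc x * y = (y⁻¹ * x⁻¹)⁻¹ := by group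
      _ = y * x := by rw [← h]; group
  -- the centraliser in `O` of an element of `S ∩ N` conjugate to `t`
  have hCv : ∀ v ∈ A.D.S, v ∈ A.D.N → (∃ g : G, g * A.D.t * g⁻¹ = v) → ∀ y ∈ O, v * y = y * v → y = 1 := by
    rintro v hvS hvN ⟨g, hg⟩ y0 hy0 hvy
    set y := g⁻¹ * y0 * g with hy
    set t1 := g⁻¹ * A.D.t * g with ht1
    have hyC : y ∈ A.C := Subgroup.mem_centralizer_singleton_iff.mpr (by
      calc g⁻¹ * y0 * g * A.D.t = g⁻¹ * (y0 * (g * A.D.t * g⁻¹)) * g := by group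
        _ = g⁻¹ * (v * y0) * g := by rw [hg, hvy]
        _ = A.D.t * (g⁻¹ * y0 * g) := by rw [← hg]; group)
    have hyodd : Odd (orderOf y) := by
      rw [show y = MulAut.conj g⁻¹ y0 by simp [hy], MulEquiv.orderOf_eq]
      exact hOodd.of_dvd_nat (Subgroup.orderOf_dvd_natCard O hy0)
    have hyE := A.odd_mem_E hyC hyodd
    have ht1C : t1 ∈ A.C := Subgroup.mem_centralizer_singleton_iff.mpr (by
      calc g⁻¹ * A.D.t * g * A.D.t = g⁻¹ * (A.D.t * (g * A.D.t * g⁻¹)) * g := by group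
        _ = g⁻¹ * (v * A.D.t) * g := by rw [hg, A.D.comm A.D.tS hvS]
        _ = A.D.t * (g⁻¹ * A.D.t * g) := by rw [← hg]; group)
    have ht1sq : t1 * t1 = 1 := by
      rw [show t1 * t1 = g⁻¹ * (A.D.t * A.D.t) * g by rw [ht1]; group, A.D.t_sq]; group
    have hinv1 : t1 * y * t1⁻¹ = y⁻¹ := by
      rw [show t1 * y * t1⁻¹ = g⁻¹ * (A.D.t * y0 * (A.D.t)⁻¹) * g by rw [ht1, hy]; group, hinv y0 hy0, hy]; group
    obtain ⟨e, he, hte⟩ := mem_product A.D.ht A.hdp ht1C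
    have he1 : e ≠ 1 := by
      rintro rfl
      rcases hte with h | h
      · exact A.D.t_ne (conj_eq_one_iff.mp (show g⁻¹ * A.D.t * g⁻¹⁻¹ = 1 by rw [inv_inv, ← h]))
      · refine A.t_not_N (?_ : A.D.t ∈ A.D.N)
        rw [mul_one] at h
        rw [show A.D.t = g * t1 * g⁻¹ by rw [ht1]; group, h, hg]
        exact hvN
    have hte2 : A.D.t * e = e * A.D.t := A.t_comm_E he
    have he2 : e * e = 1 := by
      rcases hte with h | h
      · rw [← h]; exact ht1sq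
      · rw [h] at ht1sq
        calc e * e = (A.D.t * A.D.t) * (e * e) := by rw [A.D.t_sq, one_mul]
          _ = A.D.t * e * (A.D.t * e) := Commute.mul_mul_mul_comm hte2 _ _
          _ = 1 := ht1sq
    have hty : A.D.t * y = y * A.D.t := (Subgroup.mem_centralizer_singleton_iff.mp hyC).symm
    have hey : e * y * e⁻¹ = y⁻¹ := by
      rcases hte with h | h
      · rw [← h]; exact hinv1
      · rw [h, show A.D.t * e * y * (A.D.t * e)⁻¹ = A.D.t * (e * y * e⁻¹) * (A.D.t)⁻¹ by group] at hinv1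
        rwa [A.t_comm_E (mul_mem (mul_mem he hyE) (inv_mem he)), mul_inv_cancel_right] at hinv1
    have heN := A.mem_N_of_invol he he1 he2
    have hy2 : y⁻¹ * y⁻¹ ∈ A.D.N := by
      nth_rewrite 1 [← hey]
      rw [show e * y * e⁻¹ * y⁻¹ = e * (y * e⁻¹ * y⁻¹) by group]
      exact mul_mem heN (A.D.Nn y hyC _ (inv_mem heN))
    have hyN : y ∈ A.D.N := by
      obtain ⟨k, hk⟩ := hyodd
      have h : y = (y⁻¹ * y⁻¹) ^ k := by
        have h1 : y ^ (2 * k + 1) = 1 := by rw [← hk]; exact pow_orderOf_eq_one y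
        rw [← pow_two, ← pow_mul, inv_pow]
        exact eq_inv_of_mul_eq_one_left (by rw [← pow_succ']; exact h1)
      rw [h]; exact pow_mem hy2 k
    obtain ⟨c, hc, hsS, hsN, hs1⟩ := A.exists_conj_SN he he1 he2
    obtain ⟨v', w', hv', hv'N, hw', hw'N, hv'1, hw'1, hne'⟩ := A.fr.pair
    obtain ⟨w, hwS, hwN, hw1, hws⟩ : ∃ w ∈ A.D.S, w ∈ A.D.N ∧ w ≠ 1 ∧ w ≠ c⁻¹ * e * c := by
      by_cases h : v' = c⁻¹ * e * c
      · exact ⟨w', hw', hw'N, hw'1, fun e' => hne' (h.trans e'.symm)⟩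
      · exact ⟨v', hv', hv'N, hv'1, h⟩
    set w2 := c * w * c⁻¹ with hw2
    have hw2N : w2 ∈ A.D.N := A.D.Nn c hc w hwN
    let I : A.D.N →* Matrix.ProjectiveSpecialLinearGroup (Fin 2) F := i.toMonoidHom
    have hI : Function.Injective I := i.injective
    have hne_one : ∀ {x : A.D.N}, (x : G) ≠ 1 → I x ≠ 1 := fun hx h =>
      hx (congrArg Subtype.val ((map_eq_one_iff I hI).mp h))
    have key := psl_inverted (e := I ⟨e, heN⟩) (w := I ⟨w2, hw2N⟩) (y := I ⟨y, hyN⟩)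
      (JankoReeMult.two_ne hF) (by rw [← map_mul, show (⟨e, heN⟩ : A.D.N) * ⟨e, heN⟩ = 1 from Subtype.ext he2, map_one])
      (hne_one he1) (by
        rw [← map_mul, show (⟨w2, hw2N⟩ : A.D.N) * ⟨w2, hw2N⟩ = 1 from Subtype.ext (by
          show c * w * c⁻¹ * (c * w * c⁻¹) = 1
          rw [show c * w * c⁻¹ * (c * w * c⁻¹) = c * (w * w) * c⁻¹ by group, A.fr.sq w hwS, mul_one, mul_inv_cancel]),
          map_one])
      (hne_one (fun h => hw1 (conj_eq_one_iff.mp h)))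
      (fun h => hws (by
        have h' : e = c * w * c⁻¹ := congrArg Subtype.val (hI h)
        rw [h']; group))
      (by
        rw [← map_mul, ← map_mul]
        refine congrArg I (Subtype.ext ?_)
        show e * (c * w * c⁻¹) = c * w * c⁻¹ * e
        calc e * (c * w * c⁻¹) = c * ((c⁻¹ * e * c) * w) * c⁻¹ := by group
          _ = c * w * c⁻¹ * e := by rw [A.D.comm hsS hwS]; group)
      (by rw [orderOf_injective I hI, Subgroup.orderOf_mk]; obtain ⟨k, hk⟩ := hOodd.of_dvd_nat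
            (Subgroup.orderOf_dvd_natCard O hy0); exact ⟨k, by rw [← hk, hy, show g⁻¹ * y0 * g = MulAut.conj g⁻¹ y0 by simp, MulEquiv.orderOf_eq]⟩)
      (by rw [← map_inv, ← map_mul, ← map_mul, ← map_inv]; exact congrArg I (Subtype.ext hey))
      (fun p hp => by
        obtain ⟨⟨n, hn⟩, rfl⟩ := i.surjective p
        change I ⟨n, hn⟩ * I ⟨e, heN⟩ = I ⟨e, heN⟩ * I ⟨n, hn⟩ at hp
        rw [← map_mul, ← map_mul] at hp
        have hne : n * e = e * n := congrArg Subtype.val (hI hp)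
        have hnt : A.D.t * n = n * A.D.t := A.t_comm_E (A.NE hn)
        have hnt1 : t1 * n = n * t1 := by
          rcases hte with h | h <;> rw [h]
          · exact hne.symm
          · calc A.D.t * e * n = A.D.t * (e * n) := mul_assoc _ _ _
              _ = (A.D.t * n) * e := by rw [← hne, mul_assoc]
              _ = n * (A.D.t * e) := by rw [hnt, mul_assoc]
        set g0 := g * n * g⁻¹ with hg0
        have hg0C : g0 ∈ A.C := Subgroup.mem_centralizer_singleton_iff.mpr (by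
          calc g * n * g⁻¹ * A.D.t = g * (n * t1) * g⁻¹ := by rw [ht1]; group
            _ = A.D.t * (g * n * g⁻¹) := by rw [← hnt1, ht1]; group)
        have h := hab _ (hOn g0 (hCM hg0C) y0 hy0) _ hy0
        show I ⟨n, hn⟩ * I ⟨y, hyN⟩ * (I ⟨n, hn⟩)⁻¹ * I ⟨y, hyN⟩ = I ⟨y, hyN⟩ * (I ⟨n, hn⟩ * I ⟨y, hyN⟩ * (I ⟨n, hn⟩)⁻¹)
        rw [← map_inv, ← map_mul, ← map_mul, ← map_mul, ← map_mul]
        refine congrArg I (Subtype.ext ?_)
        show n * y * n⁻¹ * y = y * (n * y * n⁻¹)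
        calc n * y * n⁻¹ * y = g⁻¹ * ((g0 * y0 * g0⁻¹) * y0) * g := by rw [hg0, hy]; group
          _ = y * (n * y * n⁻¹) := by rw [h, hg0, hy]; group)
    have hy1 : y = 1 := congrArg Subtype.val ((map_eq_one_iff I hI).mp key)
    calc y0 = g * y * g⁻¹ := by rw [hy]; group
      _ = 1 := by rw [hy1]; group
  -- every element of `S ∩ N` inverts `O`
  have hneg : ∀ v ∈ A.D.S, v ∈ A.D.N → v ≠ 1 → ∀ o ∈ O, v * o * v⁻¹ = o⁻¹ := by
    obtain ⟨v0, hv0, hv0N, hv01, g, hg⟩ := A.exists_conj_t hG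
    intro v hv hvN hv1 o ho
    obtain ⟨n, hnN, -, hn⟩ := A.fr.conjV v0 v hv0 hv0N hv hvN hv01 hv1
    have hvo := hOn v (hSM hv) o ho
    have h1 : o * (v * o * v⁻¹) = 1 := hCv v hv hvN ⟨n * g, by rw [← hn, ← hg]; group⟩ _ (mul_mem ho hvo) (by
      calc v * (o * (v * o * v⁻¹)) = (v * o * v⁻¹) * (v * v) * o * v⁻¹ := by group
        _ = (v * o * v⁻¹) * o * v⁻¹ := by rw [A.fr.sq v hv, mul_one]
        _ = o * (v * o * v⁻¹) * v⁻¹ := by rw [hab _ hvo _ ho]
        _ = o * (v * o * v⁻¹) * v := by rw [inv_eq_of_mul_eq_one_right (A.fr.sq v hv)])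
    exact eq_inv_of_mul_eq_one_right h1
  have hObot : ∀ o ∈ O, o = 1 := by
    intro o ho
    obtain ⟨v, w, hv, hvN, hw, hwN, hv1, hw1, hne⟩ := A.fr.pair
    have hvw : v * w ≠ 1 := fun e => hne ((mul_eq_one_iff_eq_inv.mp e).trans
      (inv_eq_of_mul_eq_one_right (A.fr.sq w hw)))
    have h1 := hneg _ (mul_mem hv hw) (mul_mem hvN hwN) hvw o ho
    rw [show v * w * o * (v * w)⁻¹ = v * (w * o * w⁻¹) * v⁻¹ by group, hneg w hw hwN hw1 o ho,
      hneg v hv hvN hv1 _ (inv_mem ho), inv_inv] at h1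
    refine orderOf_eq_one_iff.mp (Nat.eq_one_of_dvd_coprimes (Nat.coprime_two_right.mpr
      (hOodd.of_dvd_nat (Subgroup.orderOf_dvd_natCard O ho))) dvd_rfl (orderOf_dvd_of_pow_eq_one ?_))
    rw [pow_two]
    nth_rewrite 1 [h1]
    exact inv_mul_cancel o
  intro g hg
  refine Subgroup.mem_centralizer_singleton_iff.mpr ?_
  have h := hObot _ (hcm g hg)
  rw [mul_inv_eq_one, mul_inv_eq_iff_eq_mul] at h
  exact h.symm

end Setting

end CfsgLib.AbCentMax
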