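import Cfsg.Agent.Lib.JankoReeMult.PSLTwo

/-!
An element of odd order of `PSL₂(q)`, `q` odd, inverted by an involution and commuting with its conjugates
under the centraliser of that involution is trivial.
-/

set_option autoImplicit false
set_option linter.unusedSectionVars false
set_option linter.style.haveILetI false

namespace CfsgLib.AbCentMax

open Matrix CfsgLib.JankoReeMult
open CfsgLib.PSL2 (mk mk_eq_mk)
open scoped MatrixGroups

variable {F : Type*} [Field F]

local notation "SL" => Matrix.SpecialLinearGroup (Fin 2) F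
local notation "PSL" => Matrix.ProjectiveSpecialLinearGroup (Fin 2) F
local notation "M2" => Matrix (Fin 2) (Fin 2) F

theorem sq_eq_trace (M : SL) : M.1 * M.1 = (M.1 0 0 + M.1 1 1) • M.1 - 1 := by
  have hdet : M.1 0 0 * M.1 1 1 - M.1 0 1 * M.1 1 0 = 1 := by rw [← Matrix.det_fin_two]; exact M.2
  ext i j
  fin_cases i <;> fin_cases j <;> simp [Matrix.mul_apply, Fin.sum_univ_two] <;>
    first | linear_combination (-1 : F) * hdet | ring

theorem anti_eq {X Y : M2} (hX : X 0 0 + X 1 1 = 0) (hY : Y 0 0 + Y 1 1 = 0) :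
    X * Y + Y * X = ((X * Y) 0 0 + (X * Y) 1 1) • (1 : M2) := by
  have e1 : X 1 1 = -X 0 0 := by linear_combination hX
  have e2 : Y 1 1 = -Y 0 0 := by linear_combination hY
  ext i j
  fin_cases i <;> fin_cases j <;> simp [Matrix.mul_apply, Fin.sum_univ_two, e1, e2] <;> ring

/-- A quaternion pair. -/
structure QPair (A B : M2) : Prop where
  aa : A * A = -1
  bb : B * B = -1
  ba : B * A = -(A * B)

namespace QPair

variable {A B : Matrix (Fin 2) (Fin 2) F} (h : QPair A B)
include h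

theorem ne_zero : A ≠ 0 := fun e => by
  have := congrFun (congrFun h.aa 0) 0
  simp [e] at this

theorem tr_a (h2 : (2 : F) ≠ 0) : A 0 0 + A 1 1 = 0 := by
  have e1 : (A * B) * B = -A := by rw [mul_assoc, h.bb, mul_neg, mul_one]
  have e2 : B * (A * B) = A := by rw [← mul_assoc, h.ba, neg_mul, mul_assoc, h.bb, mul_neg, mul_one, neg_neg]
  have t : Matrix.trace ((A * B) * B) = Matrix.trace (B * (A * B)) := Matrix.trace_mul_comm _ _
  rw [e1, e2, Matrix.trace_neg, Matrix.trace_fin_two] at t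
  exact (mul_eq_zero.mp (show (2 : F) * (A 0 0 + A 1 1) = 0 by linear_combination -t)).resolve_left h2

theorem swap : QPair B A := ⟨h.bb, h.aa, by rw [h.ba, neg_neg]⟩

theorem right : QPair A (A * B) := by
  refine ⟨h.aa, ?_, ?_⟩
  · calc A * B * (A * B) = A * (B * A) * B := by noncomm_ring
      _ = -((A * A) * (B * B)) := by rw [h.ba]; noncomm_ring
      _ = -1 := by rw [h.aa, h.bb]; noncomm_ring
  · calc A * B * A = A * (B * A) := mul_assoc _ _ _
      _ = -(A * (A * B)) := by rw [h.ba, mul_neg]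

theorem a_ab : A * (A * B) = -B := by rw [← mul_assoc, h.aa, neg_one_mul]

theorem b_ab : B * (A * B) = A := by
  rw [← mul_assoc, h.ba, neg_mul, mul_assoc, h.bb, mul_neg, mul_one, neg_neg]

theorem ab_a : A * B * A = B := by rw [mul_assoc, h.ba, mul_neg, h.a_ab, neg_neg]

theorem ab_b : A * B * B = -A := by rw [mul_assoc, h.bb, mul_neg, mul_one]

/-- Matrices anticommuting in trace with `A` lie in the span of `1`, `B`, `AB`. -/
theorem expand (h2 : (2 : F) ≠ 0) (M : M2) (hM : (M * A) 0 0 + (M * A) 1 1 = 0) :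
    ∃ a u v : F, M = a • (1 : M2) + u • B + v • (A * B) ∧ M 0 0 + M 1 1 = 2 * a := by
  set a : F := (M 0 0 + M 1 1) / 2
  set u : F := -((M * B) 0 0 + (M * B) 1 1) / 2
  have ha : a * 2 = M 0 0 + M 1 1 := by simp only [a]; field_simp
  have hu : u * 2 = -((M * B) 0 0 + (M * B) 1 1) := by simp only [u]; field_simp
  clear_value a u
  have tA := h.tr_a h2
  have tB := h.swap.tr_a h2
  have tAB := h.right.swap.tr_a h2
  have tBB : (B * B) 0 0 + (B * B) 1 1 = -2 := by rw [h.bb]; simp [Matrix.one_apply_eq]; ring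
  have tBA : (B * A) 0 0 + (B * A) 1 1 = 0 := by rw [h.ba]; simp; linear_combination -tAB
  set D : M2 := M - a • (1 : M2) - u • B with hD
  have hD0 : D 0 0 + D 1 1 = 0 := by simp [hD]; linear_combination -u * tB - ha
  have hDA : (D * A) 0 0 + (D * A) 1 1 = 0 := by
    rw [show D * A = M * A - a • A - u • (B * A) by simp [hD, sub_mul]]
    simp only [Matrix.sub_apply, Matrix.smul_apply, smul_eq_mul]
    linear_combination hM - a * tA - u * tBA
  have hDB : (D * B) 0 0 + (D * B) 1 1 = 0 := by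
    rw [show D * B = M * B - a • B - u • (B * B) by simp [hD, sub_mul]]
    simp only [Matrix.sub_apply, Matrix.smul_apply, smul_eq_mul]
    linear_combination -a * tB - u * tBB + hu
  have eA := anti_eq hD0 tA
  have eB := anti_eq hD0 tB
  rw [hDA, zero_smul, add_eq_zero_iff_eq_neg] at eA
  rw [hDB, zero_smul, add_eq_zero_iff_eq_neg] at eB
  have hc : D * (A * B) = (A * B) * D := by
    rw [← mul_assoc, eA, neg_mul, mul_assoc, eB, mul_neg, neg_neg, mul_assoc]
  obtain ⟨x, y, hxy⟩ := commutant h2 (A * B) D h.right.bb tAB hc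
  have hx : x = 0 := by
    rw [hxy] at hD0
    simp only [Matrix.add_apply, Matrix.smul_apply, smul_eq_mul, Matrix.one_apply_eq] at hD0
    exact (mul_eq_zero.mp (show x * 2 = 0 by linear_combination hD0 - y * tAB)).resolve_right h2
  refine ⟨a, u, y, ?_, by rw [← ha, mul_comm]⟩
  rw [hx, zero_smul, zero_add, hD] at hxy
  rw [← hxy]; abel

theorem expand_sq {M : M2} {a u v : F} (hM : M = a • (1 : M2) + u • B + v • (A * B)) :
    M * M = (2 * a) • M - (a ^ 2 + u ^ 2 + v ^ 2) • (1 : M2) := by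
  subst hM
  simp only [add_mul, mul_add, smul_mul_assoc, mul_smul_comm, smul_smul, one_mul, mul_one, h.bb, h.b_ab, h.ab_b,
    h.right.bb, smul_add, smul_neg, neg_smul]
  module

end QPair

/-- The reduced case. -/
theorem plane_case {A B : M2} (h : QPair A B) (h2 : (2 : F) ≠ 0) {a u : F} (ha : a ≠ 0)
    (hc : (a • (1 : M2) + u • A) * (a • (1 : M2) + u • B) * (a • (1 : M2) - u • A) * (a • (1 : M2) + u • B) =
      (a • (1 : M2) + u • B) * ((a • (1 : M2) + u • A) * (a • (1 : M2) + u • B) * (a • (1 : M2) - u • A))) :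
    a ^ 2 + u ^ 2 = 1 → u = 0 := by
  intro h1
  have key : (a • (1 : M2) + u • A) * (a • (1 : M2) + u • B) * (a • (1 : M2) - u • A) =
      (a * (a ^ 2 + u ^ 2)) • (1 : M2) + (u * (a ^ 2 - u ^ 2)) • B + (2 * a * u ^ 2) • (A * B) := by
    simp only [add_mul, mul_add, mul_sub, sub_mul, smul_mul_assoc, mul_smul_comm, smul_smul, one_mul, mul_one, h.aa,
      h.ba, h.ab_a, smul_add, smul_sub, smul_neg, neg_smul]
    module
  rw [key, h1, mul_one] at hc
  have e : (4 * a * u ^ 3) • A = 0 := by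
    have := sub_eq_zero.mpr hc.symm
    rw [← this]
    simp only [add_mul, mul_add, smul_mul_assoc, mul_smul_comm, smul_smul, one_mul, mul_one, h.bb, h.b_ab, h.ab_b,
      smul_add, smul_neg, neg_smul]
    module
  have h4 : (4 : F) ≠ 0 := by rw [show (4 : F) = 2 * 2 by norm_num]; exact mul_ne_zero h2 h2
  have := (smul_eq_zero.mp e).resolve_right h.ne_zero
  exact pow_eq_zero_iff (n := 3) (by norm_num) |>.mp ((mul_eq_zero.mp this).resolve_left (mul_ne_zero h4 ha))

variable [Finite F]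

theorem coe_inv_right (X : SL) : X.1 * (X⁻¹).1 = 1 := by
  show (X * X⁻¹).1 = 1
  rw [mul_inv_cancel]; rfl

theorem coe_inv_left (X : SL) : (X⁻¹).1 * X.1 = 1 := by
  show (X⁻¹ * X).1 = 1
  rw [inv_mul_cancel]; rfl

/-- The matrix lemma. -/
theorem psl_inverted (h2 : (2 : F) ≠ 0) {e w y : PSL} (he : e * e = 1) (he1 : e ≠ 1) (hw : w * w = 1) (hw1 : w ≠ 1)
    (hne : e ≠ w) (hew : e * w = w * e) (hy : Odd (orderOf y)) (hinv : e * y * e⁻¹ = y⁻¹)
    (hcomm : ∀ g : PSL, g * e = e * g → g * y * g⁻¹ * y = y * (g * y * g⁻¹)) : y = 1 := by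
  obtain ⟨A, rfl⟩ := QuotientGroup.mk'_surjective _ e
  obtain ⟨B, rfl⟩ := QuotientGroup.mk'_surjective _ w
  obtain ⟨Y, rfl⟩ := QuotientGroup.mk'_surjective _ y
  change (mk A : PSL) * mk A = 1 at he
  change (mk A : PSL) ≠ 1 at he1
  change (mk B : PSL) * mk B = 1 at hw
  change (mk B : PSL) ≠ 1 at hw1
  change (mk A : PSL) ≠ mk B at hne
  change (mk A : PSL) * mk B = mk B * mk A at hew
  change Odd (orderOf (mk Y : PSL)) at hy
  change (mk A : PSL) * mk Y * (mk A)⁻¹ = (mk Y)⁻¹ at hinv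
  change ∀ g : PSL, g * mk A = mk A * g → g * mk Y * g⁻¹ * mk Y = mk Y * (g * mk Y * g⁻¹) at hcomm
  show (mk Y : PSL) = 1
  obtain ⟨a1, -⟩ := involution_lift h2 A he1 he
  obtain ⟨b1, -⟩ := involution_lift h2 B hw1 hw
  have hq : QPair A.1 B.1 := ⟨a1, b1, anticomm h2 A B he1 he hw1 hw hne hew⟩
  have sq1 : (mk Y : PSL) * mk Y = 1 → (mk Y : PSL) = 1 := fun h => by
    refine orderOf_eq_one_iff.mp (Nat.eq_one_of_dvd_coprimes (Nat.coprime_two_right.mpr hy) dvd_rfl
      (orderOf_dvd_of_pow_eq_one ?_))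
    rw [pow_two]; exact h
  have htr0 : Y.1 0 0 + Y.1 1 1 = 0 → (mk Y : PSL) = 1 := fun h => sq1 (by
    rw [← map_mul, ← map_one (mk : SL →* PSL), mk_eq_mk]
    right
    show (1 : M2) = -(Y.1 * Y.1)
    rw [sq_eq_trace, h, zero_smul, zero_sub, neg_neg])
  by_contra hy1
  have hs : Y.1 0 0 + Y.1 1 1 ≠ 0 := fun h => hy1 (htr0 h)
  -- the product with the inverting involution
  have hYA : (mk (Y * A) : PSL) * mk (Y * A) = 1 := by
    rw [map_mul]
    calc (mk Y : PSL) * mk A * (mk Y * mk A) = mk Y * ((mk A * mk Y * (mk A)⁻¹) * (mk A * mk A)) := by group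
      _ = 1 := by rw [hinv, he, mul_one, mul_inv_cancel]
  have hYA1 : (mk (Y * A) : PSL) ≠ 1 := fun h => by
    rw [map_mul] at h
    have : (mk Y : PSL) = mk A := (mul_eq_one_iff_eq_inv.mp h).trans (inv_eq_of_mul_eq_one_right he)
    exact hy1 (sq1 (by rw [this, he]))
  obtain ⟨a, u, v, hY, htr⟩ := hq.expand h2 Y.1 (involution_lift h2 (Y * A) hYA1 hYA).2
  have ha : a ≠ 0 := fun e => hs (by rw [htr, e, mul_zero])
  have hsum : a ^ 2 + u ^ 2 + v ^ 2 = 1 := by
    have e := hq.expand_sq hY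
    rw [sq_eq_trace, htr, sub_right_inj] at e
    have := congrFun (congrFun e 0) 0
    simpa using this.symm
  -- conjugates commute as matrices
  have lift : ∀ g : SL, g.1 * A.1 = A.1 * g.1 ∨ g.1 * A.1 = -(A.1 * g.1) →
      g.1 * Y.1 * (g⁻¹).1 * Y.1 = Y.1 * (g.1 * Y.1 * (g⁻¹).1) := by
    intro g hg
    have h := hcomm (mk g) (by
      rw [← map_mul, ← map_mul, mk_eq_mk]
      rcases hg with h | h
      · exact Or.inl h.symm
      · exact Or.inr (by show A.1 * g.1 = -(g.1 * A.1); rw [h, neg_neg]))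
    rw [← map_inv, ← map_mul, ← map_mul, ← map_mul, ← map_mul, mk_eq_mk] at h
    set Z : M2 := g.1 * Y.1 * (g⁻¹).1 with hZ
    rcases h with h | h
    · exact h.symm
    · exfalso
      change Y.1 * Z = -(Z * Y.1) at h
      have e2 : Y.1 * Z * (Y⁻¹).1 = -Z := by
        rw [h, neg_mul, mul_assoc, coe_inv_right, mul_one]
      have tZ : Matrix.trace Z = Matrix.trace Y.1 := by
        rw [hZ, Matrix.trace_mul_comm, ← mul_assoc, coe_inv_left, one_mul]
      have t2 : Matrix.trace (Y.1 * Z * (Y⁻¹).1) = Matrix.trace Z := by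
        rw [Matrix.trace_mul_comm, ← mul_assoc, coe_inv_left, one_mul]
      rw [e2, Matrix.trace_neg, tZ, Matrix.trace_fin_two] at t2
      exact hs ((mul_eq_zero.mp (show (2 : F) * (Y.1 0 0 + Y.1 1 1) = 0 by linear_combination -t2)).resolve_left h2)
  -- first the reflection in `B`
  have huv : u = 0 ∨ v = 0 := by
    have hBinv : (B⁻¹).1 = -B.1 := by
      have e : B.1 * (B⁻¹).1 = 1 := coe_inv_right B
      calc (B⁻¹).1 = -(B.1 * B.1) * (B⁻¹).1 := by rw [b1, neg_neg, one_mul]
        _ = -B.1 := by rw [neg_mul, mul_assoc, e, mul_one]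
    have h := lift B (Or.inr hq.ba)
    rw [hBinv] at h
    have key : B.1 * Y.1 * -B.1 = a • (1 : M2) + u • B.1 + (-v) • (A.1 * B.1) := by
      rw [hY]
      simp only [add_mul, mul_add, smul_mul_assoc, mul_smul_comm, smul_smul, one_mul, mul_one, mul_neg, hq.bb,
        hq.b_ab, smul_neg, neg_smul, neg_neg, neg_mul]
      module
    rw [key, hY] at h
    have e : (4 * u * v) • A.1 = 0 := by
      have := sub_eq_zero.mpr h
      rw [← this]
      simp only [add_mul, mul_add, smul_mul_assoc, mul_smul_comm, smul_smul, one_mul, mul_one, hq.bb, hq.b_ab,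
        hq.ab_b, hq.right.bb, smul_add, smul_neg, neg_smul, neg_mul, mul_neg]
      module
    have h4 : (4 : F) ≠ 0 := by rw [show (4 : F) = 2 * 2 by norm_num]; exact mul_ne_zero h2 h2
    rcases mul_eq_zero.mp ((smul_eq_zero.mp e).resolve_right hq.ne_zero) with e' | e'
    · exact Or.inl ((mul_eq_zero.mp e').resolve_left h4)
    · exact Or.inr e'
  -- reduce to a plane
  obtain ⟨B', hq', u', hY', hsum'⟩ : ∃ (B' : M2) (_ : QPair A.1 B') (u' : F), Y.1 = a • (1 : M2) + u' • B' ∧
      a ^ 2 + u' ^ 2 = 1 := by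
    rcases huv with rfl | rfl
    · exact ⟨_, hq.right, v, by rw [hY, zero_smul, add_zero], by linear_combination hsum⟩
    · exact ⟨_, hq, u, by rw [hY, zero_smul, add_zero], by linear_combination hsum⟩
  -- the rotation commuting with `A`
  have tA := hq.tr_a h2
  have hdA : A.1.det = 1 := A.2
  let C : SL := ⟨a • (1 : M2) + u' • A.1, by
    rw [Matrix.det_fin_two] at hdA ⊢
    simp [Matrix.add_apply, Matrix.smul_apply]
    linear_combination hsum' + u' ^ 2 * hdA + a * u' * tA⟩
  have hCinv : (C⁻¹).1 = a • (1 : M2) - u' • A.1 := by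
    have e : C.1 * (C⁻¹).1 = 1 := coe_inv_right C
    have e' : (a • (1 : M2) - u' • A.1) * C.1 = 1 := by
      show (a • (1 : M2) - u' • A.1) * (a • (1 : M2) + u' • A.1) = 1
      simp only [mul_add, sub_mul, smul_mul_assoc, mul_smul_comm, smul_smul, one_mul, mul_one, a1, smul_sub, smul_neg]
      conv_rhs => rw [show (1 : M2) = (a ^ 2 + u' ^ 2) • (1 : M2) by rw [hsum', one_smul]]
      module
    calc (C⁻¹).1 = (a • (1 : M2) - u' • A.1) * C.1 * (C⁻¹).1 := by rw [e', one_mul]
      _ = _ := by rw [mul_assoc, e, mul_one]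
  have h := lift C (Or.inl (by
    show (a • (1 : M2) + u' • A.1) * A.1 = A.1 * (a • (1 : M2) + u' • A.1)
    simp only [add_mul, mul_add, smul_mul_assoc, mul_smul_comm, one_mul, mul_one]))
  rw [hCinv, hY'] at h
  have hu0 := plane_case hq' h2 ha h hsum'
  subst hu0
  rw [zero_smul, add_zero] at hY'
  refine hy1 (sq1 ?_)
  rw [← map_mul, ← map_one (mk : SL →* PSL), mk_eq_mk]
  left
  show (1 : M2) = Y.1 * Y.1
  rw [hY']
  simp only [smul_mul_assoc, one_mul, smul_smul]
  rw [show a * a = 1 by linear_combination hsum', one_smul]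

end CfsgLib.AbCentMax
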